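import Groth.Agent.S0238
import Groth.Prelude.Def_FSch4

/-!
# Étale covers of a system are the étale covers of its smallest level
-/

noncomputable section

set_option autoImplicit false
set_option backward.isDefEq.respectTransparency false
set_option backward.isDefEq.respectTransparency.types false

universe u

open CategoryTheory CategoryTheory.Limits AlgebraicGeometry

namespace Groth.Agent.H26.FEtSys

variable {𝔛 : FSch.Sys.{u}}

/-- Restricting a cover from a level to the one below. -/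
def cmp (R : FSch.EtCov 𝔛) (n : ℕ) :
    (FEt.restrict (𝔛.ι n)).obj ((FSch.EtCov.level 𝔛 (n + 1)).obj R) ≅ (FSch.EtCov.level 𝔛 n).obj R :=
  MorphismProperty.Over.isoMk (R.property.1 n).isoPullback.symm (IsPullback.isoPullback_inv_snd _)

lemma cmp_inv_fst (R : FSch.EtCov 𝔛) (n : ℕ) :
    (cmp R n).inv.left ≫ pullback.fst ((R.obj.hom : FSch.Hom R.obj.left 𝔛).app (n + 1)) (𝔛.ι n) =
      (R.obj.left : FSch.Sys).ι n :=
  IsPullback.isoPullback_hom_fst _

lemma cmp_natural {R R' : FSch.EtCov 𝔛} (φ : R ⟶ R') (n : ℕ) :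
    (FEt.restrict (𝔛.ι n)).map ((FSch.EtCov.level 𝔛 (n + 1)).map φ) ≫ (cmp R' n).hom =
      (cmp R n).hom ≫ (FSch.EtCov.level 𝔛 n).map φ := by
  rw [← Iso.inv_comp_eq, ← Category.assoc, ← Iso.eq_comp_inv]
  apply MorphismProperty.Over.Hom.ext
  show (cmp R n).inv.left ≫ pullback.lift
      (pullback.fst _ _ ≫ (φ.hom.left : FSch.Hom R.obj.left R'.obj.left).app (n + 1)) (pullback.snd _ _) _ =
    (φ.hom.left : FSch.Hom R.obj.left R'.obj.left).app n ≫ (cmp R' n).inv.left
  apply pullback.hom_ext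
  · rw [Category.assoc, pullback.lift_fst, ← Category.assoc]
    refine (congrArg (· ≫ _) (cmp_inv_fst R n)).trans ?_
    refine Eq.trans ?_ ((congrArg ((φ.hom.left : FSch.Hom R.obj.left R'.obj.left).app n ≫ ·)
      (cmp_inv_fst R' n)).symm.trans (Category.assoc _ _ _).symm)
    exact ((φ.hom.left : FSch.Hom R.obj.left R'.obj.left).comm n).symm
  · rw [Category.assoc, pullback.lift_snd, Category.assoc]
    refine (IsPullback.isoPullback_hom_snd (R.property.1 n)).trans ?_
    refine Eq.trans ?_ (congrArg ((φ.hom.left : FSch.Hom R.obj.left R'.obj.left).app n ≫ ·)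
      (IsPullback.isoPullback_hom_snd (R'.property.1 n))).symm
    exact (congrArg (fun t : R.obj.left ⟶ 𝔛 => (t : FSch.Hom R.obj.left 𝔛).app n) (Over.w φ.hom)).symm

variable (hF : 𝔛.IsFormal)

include hF in
lemma isEquivalence_restrict (n : ℕ) : (FEt.restrict (𝔛.ι n)).IsEquivalence := by
  haveI := (hF n).1
  haveI : Surjective (𝔛.ι n) := ⟨(hF n).2⟩
  exact S0238.result (𝔛.ι n)

include hF in
theorem faithful_level_zero : (FSch.EtCov.level 𝔛 0).Faithful := ⟨fun {R R'} φ ψ h => by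
  have hn : ∀ n, (FSch.EtCov.level 𝔛 n).map φ = (FSch.EtCov.level 𝔛 n).map ψ := by
    intro n
    induction n with
    | zero => exact h
    | succ n ih =>
      haveI := isEquivalence_restrict hF n
      apply (FEt.restrict (𝔛.ι n)).map_injective
      rw [← cancel_mono (cmp R' n).hom, cmp_natural, cmp_natural, ih]
  apply ObjectProperty.hom_ext
  apply Over.OverMorphism.ext
  exact FSch.Hom.ext (funext fun n => congrArg (fun t => t.left) (hn n))⟩

include hF in
theorem full_level_zero : (FSch.EtCov.level 𝔛 0).Full := ⟨fun {R R'} φ₀ => by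
  haveI := fun n => isEquivalence_restrict hF n
  let φ : ∀ n, (FSch.EtCov.level 𝔛 n).obj R ⟶ (FSch.EtCov.level 𝔛 n).obj R' := fun n =>
    Nat.rec (motive := fun n => (FSch.EtCov.level 𝔛 n).obj R ⟶ (FSch.EtCov.level 𝔛 n).obj R') φ₀
      (fun m ψ => (FEt.restrict (𝔛.ι m)).preimage ((cmp R m).hom ≫ ψ ≫ (cmp R' m).inv)) n
  have hφ : ∀ n, (cmp R n).inv ≫ (FEt.restrict (𝔛.ι n)).map (φ (n + 1)) = φ n ≫ (cmp R' n).inv := fun n => by
    rw [show (FEt.restrict (𝔛.ι n)).map (φ (n + 1)) = (cmp R n).hom ≫ φ n ≫ (cmp R' n).inv from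
      (FEt.restrict (𝔛.ι n)).map_preimage _, Iso.inv_hom_id_assoc]
  let Φ : R.obj.left ⟶ R'.obj.left := ⟨fun n => (φ n).left, fun n => by
    have e := congrArg (fun t => t.left ≫
      pullback.fst ((R'.obj.hom : FSch.Hom R'.obj.left 𝔛).app (n + 1)) (𝔛.ι n)) (hφ n)
    refine Eq.trans (congrArg ((φ n).left ≫ ·) (cmp_inv_fst R' n).symm) ?_
    refine ((Category.assoc _ _ _).symm.trans e.symm).trans ?_
    show ((cmp R n).inv.left ≫ pullback.lift (pullback.fst _ _ ≫ (φ (n + 1)).left) (pullback.snd _ _) _) ≫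
      pullback.fst _ _ = _
    rw [Category.assoc, pullback.lift_fst, ← Category.assoc]
    exact congrArg (· ≫ (φ (n + 1)).left) (cmp_inv_fst R n)⟩
  refine ⟨ObjectProperty.homMk (Over.homMk Φ (FSch.Hom.ext (funext fun n => MorphismProperty.Over.w (φ n)))), ?_⟩
  exact MorphismProperty.Over.Hom.ext rfl⟩

include hF in
theorem essSurj_level_zero : (FSch.EtCov.level 𝔛 0).EssSurj := ⟨fun Y₀ => by
  haveI := fun n => isEquivalence_restrict hF n
  let Y : ∀ n, FEt.Cat (𝔛.X n) := fun n =>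
    Nat.rec (motive := fun n => FEt.Cat (𝔛.X n)) Y₀ (fun m y => (FEt.restrict (𝔛.ι m)).objPreimage y) n
  let e : ∀ n, (FEt.restrict (𝔛.ι n)).obj (Y (n + 1)) ≅ Y n := fun n =>
    (FEt.restrict (𝔛.ι n)).objObjPreimageIso (Y n)
  let 𝔜 : FSch.Sys.{u} :=
    ⟨fun n => (Y n).left, fun n => (e n).inv.left ≫ pullback.fst (Y (n + 1)).hom (𝔛.ι n)⟩
  have hsq : ∀ n, IsPullback (𝔜.ι n) (Y n).hom (Y (n + 1)).hom (𝔛.ι n) := fun n => by
    let i : (Y n).left ≅ pullback (Y (n + 1)).hom (𝔛.ι n) :=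
      ⟨(e n).inv.left, (e n).hom.left, congrArg (fun t => t.left) (e n).inv_hom_id,
        congrArg (fun t => t.left) (e n).hom_inv_id⟩
    refine (IsPullback.of_hasPullback (Y (n + 1)).hom (𝔛.ι n)).of_iso i.symm (Iso.refl _) (Iso.refl _)
      (Iso.refl _) ?_ ?_ (by simp) (by simp)
    · show pullback.fst _ _ ≫ 𝟙 _ = (e n).hom.left ≫ (e n).inv.left ≫ pullback.fst _ _
      rw [Category.comp_id, ← Category.assoc]
      exact ((congrArg (· ≫ _) (congrArg (fun t => t.left) (e n).hom_inv_id)).trans (Category.id_comp _)).symm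
    · show pullback.snd _ _ ≫ 𝟙 _ = (e n).hom.left ≫ (Y n).hom
      rw [Category.comp_id]
      exact (MorphismProperty.Over.w (e n).hom).symm
  let p : 𝔜 ⟶ 𝔛 := ⟨fun n => (Y n).hom, fun n => (hsq n).w.symm⟩
  let R : FSch.EtCov 𝔛 := ⟨Over.mk p, fun n => hsq n, fun n => ⟨(Y n).prop.1, (Y n).prop.2⟩⟩
  exact ⟨R, ⟨MorphismProperty.Over.isoMk (Iso.refl _) (Category.id_comp _)⟩⟩⟩

include hF in
theorem isEquivalence_level_zero : (FSch.EtCov.level 𝔛 0).IsEquivalence :=
  haveI := faithful_level_zero hF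
  haveI := full_level_zero hF
  haveI := essSurj_level_zero hF
  { }

end Groth.Agent.H26.FEtSys
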